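import Mathlib.CategoryTheory.Limits.Presheaf
import Mathlib.CategoryTheory.Limits.Indization.IndObject
import Mathlib.CategoryTheory.Limits.Types.Filtered
import Mathlib.CategoryTheory.Limits.FunctorCategory.Basic
import Mathlib.CategoryTheory.Functor.KanExtension.Adjunction
import Mathlib.CategoryTheory.Limits.Preserves.Shapes.Products

set_option autoImplicit false
set_option linter.all false

open CategoryTheory CategoryTheory.Limits Opposite

universe u

namespace Groth.Agent.IndLanLib

variable {C : Type u} [SmallCategory C] {C' : Type u} [SmallCategory C'] (u' : C ⥤ C')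

/-- `u_!`. -/
noncomputable abbrev lanF : (Cᵒᵖ ⥤ Type u) ⥤ (C'ᵒᵖ ⥤ Type u) := u'.op.lan

/-- restriction along `u`. -/
abbrev resF : (C'ᵒᵖ ⥤ Type u) ⥤ (Cᵒᵖ ⥤ Type u) :=
  (Functor.whiskeringLeft Cᵒᵖ C'ᵒᵖ (Type u)).obj u'.op

noncomputable def adj : lanF u' ⊣ resF u' := u'.op.lanAdjunction (Type u)

noncomputable def η : 𝟭 (Cᵒᵖ ⥤ Type u) ⟶ lanF u' ⋙ resF u' := u'.op.lanUnit

lemma adj_unit : (adj u').unit = η u' := Functor.lanAdjunction_unit _ _

lemma homEquiv_map {F G : Cᵒᵖ ⥤ Type u} (φ : F ⟶ G) :
    (adj u').homEquiv F ((lanF u').obj G) ((lanF u').map φ) = φ ≫ (η u').app G := by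
  rw [Adjunction.homEquiv_unit, ← adj_unit]
  exact ((adj u').unit.naturality φ).symm

lemma map_eq_comp (F G : Cᵒᵖ ⥤ Type u) :
    (fun φ : F ⟶ G => (lanF u').map φ) =
      ((adj u').homEquiv F ((lanF u').obj G)).symm ∘ (fun φ => φ ≫ (η u').app G) := by
  funext φ
  simp only [Function.comp_apply]
  exact (Equiv.eq_symm_apply _).mpr (homEquiv_map u' φ)

/-- At a representable presheaf the unit is `u.map` up to a bijection. -/
lemma exists_equiv_unit_yoneda (X Y : C) :
    ∃ e : (u'.obj X ⟶ u'.obj Y) ≃ ((lanF u').obj (yoneda.obj Y)).obj (op (u'.obj X)),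
      ∀ f : X ⟶ Y, ((η u').app (yoneda.obj Y)).app (op X) f = e (u'.map f) := by
  let θ : yoneda.obj (u'.obj Y) ≅ (lanF u').obj (yoneda.obj Y) :=
    Functor.leftKanExtensionUnique (yoneda.obj (u'.obj Y)) (yonedaMap u' Y)
      ((lanF u').obj (yoneda.obj Y)) (u'.op.lanUnit.app (yoneda.obj Y))
  have hθ : yonedaMap u' Y ≫ Functor.whiskerLeft u'.op θ.hom =
      (η u').app (yoneda.obj Y) := by
    simp only [θ, Functor.leftKanExtensionUnique, Functor.leftKanExtensionUniqueOfIso]
    simp [η]
  refine ⟨(θ.app (op (u'.obj X))).toEquiv, fun f => ?_⟩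
  rw [← hθ]
  rfl

lemma unit_yoneda_app_injective [u'.Faithful] (Y : C) (X : Cᵒᵖ) :
    Function.Injective (((η u').app (yoneda.obj Y)).app X) := by
  obtain ⟨e, he⟩ := exists_equiv_unit_yoneda u' X.unop Y
  intro f g h
  apply u'.map_injective
  apply e.injective
  exact (he f).symm.trans (h.trans (he g))

lemma unit_yoneda_app_surjective [u'.Full] (Y : C) (X : Cᵒᵖ) :
    Function.Surjective (((η u').app (yoneda.obj Y)).app X) := by
  obtain ⟨e, he⟩ := exists_equiv_unit_yoneda u' X.unop Y
  intro y
  obtain ⟨f, hf⟩ := u'.map_surjective (e.symm y)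
  refine ⟨f, (he f).trans ?_⟩
  rw [hf]
  exact e.apply_symm_apply y

section Colim

variable {A : Cᵒᵖ ⥤ Type u} (P : IndObjectPresentation A) (X : Cᵒᵖ)

noncomputable def isColimitSrc :
    IsColimit (((evaluation Cᵒᵖ (Type u)).obj X).mapCocone P.cocone) :=
  isColimitOfPreserves _ P.coconeIsColimit

noncomputable def isColimitTgt :
    IsColimit ((lanF u' ⋙ (evaluation C'ᵒᵖ (Type u)).obj (u'.op.obj X)).mapCocone P.cocone) :=
  haveI : PreservesColimitsOfSize.{u, u} (lanF u') := (adj u').leftAdjoint_preservesColimits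
  isColimitOfPreserves _ P.coconeIsColimit

lemma unit_naturality {G H : Cᵒᵖ ⥤ Type u} (φ : G ⟶ H) (a : G.obj X) :
    ((η u').app H).app X (φ.app X a) =
      ((lanF u').map φ).app (u'.op.obj X) (((η u').app G).app X a) := by
  have := congrArg (fun t => t.app X) ((η u').naturality φ)
  exact ConcreteCategory.congr_hom this a

include P in
lemma unit_app_injective_of_presentation [u'.Faithful] :
    Function.Injective (((η u').app A).app X) := by
  intro a b hab
  obtain ⟨i, x, rfl⟩ := Types.jointly_surjective_of_isColimit (isColimitSrc P X) a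
  obtain ⟨j, y, rfl⟩ := Types.jointly_surjective_of_isColimit (isColimitSrc P X) b
  have h1 : ((η u').app A).app X ((P.cocone.ι.app i).app X x) =
      ((lanF u').map (P.cocone.ι.app i)).app (u'.op.obj X)
        (((η u').app _).app X x) := unit_naturality u' X (P.cocone.ι.app i) x
  have h2 : ((η u').app A).app X ((P.cocone.ι.app j).app X y) =
      ((lanF u').map (P.cocone.ι.app j)).app (u'.op.obj X)
        (((η u').app _).app X y) := unit_naturality u' X (P.cocone.ι.app j) y
  obtain ⟨k, f, g, hk⟩ := (Types.FilteredColimit.isColimit_eq_iff _ (isColimitTgt u' P X)).mp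
    (h1.symm.trans (hab.trans h2))
  refine (Types.FilteredColimit.isColimit_eq_iff _ (isColimitSrc P X)).mpr ⟨k, f, g, ?_⟩
  apply unit_yoneda_app_injective u' (P.F.obj k) X
  exact (unit_naturality u' X ((P.F ⋙ yoneda).map f) x).trans
    (hk.trans (unit_naturality u' X ((P.F ⋙ yoneda).map g) y).symm)

include P in
lemma unit_app_surjective_of_presentation [u'.Full] :
    Function.Surjective (((η u').app A).app X) := by
  intro z
  obtain ⟨i, w, rfl⟩ := Types.jointly_surjective_of_isColimit (isColimitTgt u' P X) z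
  obtain ⟨x, rfl⟩ := unit_yoneda_app_surjective u' (P.F.obj i) X w
  exact ⟨(P.cocone.ι.app i).app X x, unit_naturality u' X (P.cocone.ι.app i) x⟩

end Colim

lemma mono_unit [u'.Faithful] {G : Cᵒᵖ ⥤ Type u} (hG : IsIndObject G) :
    Mono ((η u').app G) := by
  haveI : ∀ X, Mono (((η u').app G).app X) := fun X =>
    (mono_iff_injective _).mpr (unit_app_injective_of_presentation u' hG.presentation X)
  exact NatTrans.mono_of_mono_app _

lemma isIso_unit [u'.Full] [u'.Faithful] {G : Cᵒᵖ ⥤ Type u} (hG : IsIndObject G) :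
    IsIso ((η u').app G) := by
  haveI : ∀ X, IsIso (((η u').app G).app X) := fun X =>
    (isIso_iff_bijective _).mpr ⟨unit_app_injective_of_presentation u' hG.presentation X,
      unit_app_surjective_of_presentation u' hG.presentation X⟩
  exact NatIso.isIso_of_isIso_app _

lemma map_injective_of_faithful [u'.Faithful] (F G : Cᵒᵖ ⥤ Type u) (hG : IsIndObject G) :
    Function.Injective (fun φ : F ⟶ G => (lanF u').map φ) := by
  rw [map_eq_comp]
  refine (Equiv.injective _).comp ?_
  haveI := mono_unit u' hG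
  exact fun φ ψ h => (cancel_mono _).mp h

lemma map_bijective_of_fullyFaithful [u'.Full] [u'.Faithful] (F G : Cᵒᵖ ⥤ Type u)
    (hG : IsIndObject G) : Function.Bijective (fun φ : F ⟶ G => (lanF u').map φ) := by
  rw [map_eq_comp]
  refine (Equiv.bijective _).comp ?_
  haveI := isIso_unit u' hG
  refine ⟨fun φ ψ h => (cancel_mono _).mp h, fun ψ => ⟨ψ ≫ inv ((η u').app G), ?_⟩⟩
  simp

lemma faithful_of_map_injective
    (h : ∀ X Y : C, Function.Injective
      (fun φ : yoneda.obj X ⟶ yoneda.obj Y => (lanF u').map φ)) : u'.Faithful where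
  map_injective {X Y} f g hfg := by
    apply yoneda.map_injective
    apply h X Y
    simp only [map_eq_comp, Function.comp_apply, EmbeddingLike.apply_eq_iff_eq]
    apply yonedaEquiv.injective
    obtain ⟨e, he⟩ := exists_equiv_unit_yoneda u' X Y
    simp only [yonedaEquiv_comp]
    rw [yonedaEquiv_yoneda_map, yonedaEquiv_yoneda_map]
    exact (he f).trans ((congrArg e hfg).trans (he g).symm)

lemma full_of_map_surjective
    (h : ∀ X Y : C, Function.Surjective
      (fun φ : yoneda.obj X ⟶ yoneda.obj Y => (lanF u').map φ)) : u'.Full where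
  map_surjective {X Y} g := by
    obtain ⟨e, he⟩ := exists_equiv_unit_yoneda u' X Y
    have hs := h X Y
    rw [map_eq_comp] at hs
    obtain ⟨φ, hφ⟩ := hs (((adj u').homEquiv _ _).symm (yonedaEquiv.symm (e g)))
    simp only [Function.comp_apply, EmbeddingLike.apply_eq_iff_eq] at hφ
    refine ⟨yonedaEquiv φ, e.injective ?_⟩
    refine (he (yonedaEquiv φ)).symm.trans ?_
    have := congrArg yonedaEquiv hφ
    rw [Equiv.apply_symm_apply, yonedaEquiv_comp] at this
    exact this

end Groth.Agent.IndLanLib
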